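import Groth.Agent.MatlisDual.Local
import Groth.Agent.AdicNoeth.Basic
import Mathlib.RingTheory.AdicCompletion.Completeness
import Mathlib.RingTheory.Artinian.Module
import Mathlib.RingTheory.HopkinsLevitzki

/-!
# Endomorphisms of the hull, Artinian modules, duality over complete rings
-/

universe u

open InjHull LocCoh IsLocalRing

namespace Groth.Agent.MatlisDual

section Action

variable {R : Type u} [CommRing R] {I : Ideal R} {M : Type u} [AddCommGroup M] [Module R M]

/-- The completion acts on torsion modules. -/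
theorem exists_completion_action (hM : IsPowerTorsion I M) :
    ∃ Θ : AdicCompletion I R →ₐ[R] Module.End R M,
      ∀ (s : AdicCompletion.AdicCauchySequence I R) (e : M) (n : ℕ),
        (∀ a ∈ I ^ n, a • e = 0) → Θ (AdicCompletion.mk I R s) e = s n • e := by
  classical
  let act : AdicCompletion I R → M → M := fun x e =>
    Quotient.out (AdicCompletion.evalₐ I (Nat.find (hM e)) x) • e
  have hmk : ∀ (s : AdicCompletion.AdicCauchySequence I R) (e : M) (n : ℕ),
      (∀ a ∈ I ^ n, a • e = 0) → act (AdicCompletion.mk I R s) e = s n • e := by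
    intro s e n hn
    simp only [act, AdicCompletion.evalₐ_mk]
    have hn0 := Nat.find_spec (hM e)
    set n0 := Nat.find (hM e) with hdef
    have hle : n0 ≤ n := Nat.find_min' (hM e) hn
    have h := (s.property hle).symm
    rw [SModEq.sub_mem, smul_eq_mul, Ideal.mul_top] at h
    have h1 := hn0 _ h
    rw [sub_smul, sub_eq_zero] at h1
    have h2 : Quotient.out (Ideal.Quotient.mk (I ^ n0) (s n0)) - s n0 ∈ I ^ n0 :=
      Ideal.Quotient.eq.mp (Ideal.Quotient.mk_out _)
    have h3 := hn0 _ h2
    rw [sub_smul, sub_eq_zero] at h3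
    rw [h3, ← h1]
  have hexp : ∀ e e' : M, ∃ n, (∀ a ∈ I ^ n, a • e = 0) ∧ (∀ a ∈ I ^ n, a • e' = 0) ∧
      (∀ a ∈ I ^ n, a • (e + e') = 0) := by
    intro e e'
    obtain ⟨m, hm⟩ := hM e
    obtain ⟨m', hm'⟩ := hM e'
    refine ⟨max m m', fun a ha => hm a (Ideal.pow_le_pow_right (le_max_left _ _) ha),
      fun a ha => hm' a (Ideal.pow_le_pow_right (le_max_right _ _) ha), fun a ha => ?_⟩
    rw [smul_add, hm a (Ideal.pow_le_pow_right (le_max_left _ _) ha),
      hm' a (Ideal.pow_le_pow_right (le_max_right _ _) ha), add_zero]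
  let Φ : AdicCompletion I R → Module.End R M := fun x =>
    { toFun := act x
      map_add' := fun e e' => by
        obtain ⟨s, rfl⟩ := AdicCompletion.mk_surjective I R x
        obtain ⟨n, h1, h2, h3⟩ := hexp e e'
        rw [hmk s _ n h1, hmk s _ n h2, hmk s _ n h3, smul_add]
      map_smul' := fun r e => by
        obtain ⟨s, rfl⟩ := AdicCompletion.mk_surjective I R x
        obtain ⟨n, hn⟩ := hM e
        rw [RingHom.id_apply, hmk s e n hn,
          hmk s (r • e) n (fun a ha => by rw [smul_comm, hn a ha, smul_zero]), smul_comm] }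
  have hlin : ∀ (s : AdicCompletion.AdicCauchySequence I R) (e : M) (n : ℕ),
      (∀ a ∈ I ^ n, a • e = 0) → Φ (AdicCompletion.mk I R s) e = s n • e := hmk
  have hofmk : ∀ x : AdicCompletion I R, ∃ s, AdicCompletion.mkₐ (I := I) s = x := fun x => by
    obtain ⟨s, hs⟩ := AdicCompletion.mk_surjective I R x
    exact ⟨s, hs⟩
  have hmul : ∀ x y, Φ (x * y) = Φ x * Φ y := fun x y => by
    obtain ⟨s, rfl⟩ := hofmk x
    obtain ⟨t, rfl⟩ := hofmk y
    rw [← map_mul]
    refine LinearMap.ext fun e => ?_
    obtain ⟨n, hn⟩ := hM e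
    rw [Module.End.mul_apply]
    change Φ (AdicCompletion.mk I R (s * t)) e =
      Φ (AdicCompletion.mk I R s) (Φ (AdicCompletion.mk I R t) e)
    rw [hlin _ e n hn, hlin t e n hn,
      hlin s _ n (fun a ha => by rw [smul_comm, hn a ha, smul_zero]), smul_smul]
    rfl
  have hadd : ∀ x y, Φ (x + y) = Φ x + Φ y := fun x y => by
    obtain ⟨s, rfl⟩ := hofmk x
    obtain ⟨t, rfl⟩ := hofmk y
    rw [← map_add]
    refine LinearMap.ext fun e => ?_
    obtain ⟨n, hn⟩ := hM e
    change Φ (AdicCompletion.mk I R (s + t)) e =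
      Φ (AdicCompletion.mk I R s) e + Φ (AdicCompletion.mk I R t) e
    rw [hlin _ e n hn, hlin t e n hn, hlin s e n hn, ← add_smul]
    rfl
  have hone : ∀ r : R, Φ (algebraMap R _ r) = algebraMap R (Module.End R M) r := fun r => by
    rw [show algebraMap R (AdicCompletion I R) r =
      AdicCompletion.mkₐ (I := I) (algebraMap R _ r) from (AlgHom.commutes _ r).symm]
    refine LinearMap.ext fun e => ?_
    obtain ⟨n, hn⟩ := hM e
    change Φ (AdicCompletion.mk I R _) e = _
    rw [hlin _ e n hn]
    rfl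
  refine ⟨{ toFun := Φ, map_one' := ?_, map_mul' := hmul, map_zero' := ?_, map_add' := hadd,
            commutes' := hone }, hlin⟩
  · simpa using hone 1
  · simpa using hone 0

end Action

variable {R : Type u} [CommRing R] [IsLocalRing R] [IsNoetherianRing R]
  {E : Type u} [AddCommGroup E] [Module R E] {f : ResidueField R →ₗ[R] E}

theorem isPowerTorsion_hull (hf : IsInjectiveHull f) : IsPowerTorsion (maximalIdeal R) E :=
  InjHullBasic.isPowerTorsion_of_prime (p := maximalIdeal R) (f := f) hf

lemma isFiniteLength_quotient_pow (n : ℕ) : IsFiniteLength R (R ⧸ maximalIdeal R ^ n) := by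
  rcases Nat.eq_zero_or_pos n with rfl | hn
  · have : Subsingleton (R ⧸ maximalIdeal R ^ 0) :=
      Ideal.Quotient.subsingleton_iff.mpr (by simp [Ideal.one_eq_top])
    exact .of_subsingleton
  · rw [isFiniteLength_iff_isNoetherian_isArtinian]
    refine ⟨inferInstance, ?_⟩
    have : IsArtinianRing (R ⧸ maximalIdeal R ^ n) := by
      have hne : maximalIdeal R ^ n ≠ ⊤ := (lt_of_le_of_lt (Ideal.pow_le_self hn.ne')
        (lt_top_iff_ne_top.mpr (maximalIdeal.isMaximal R).ne_top)).ne
      have : Nontrivial (R ⧸ maximalIdeal R ^ n) := Ideal.Quotient.nontrivial_iff.mpr hne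
      have : IsLocalRing (R ⧸ maximalIdeal R ^ n) :=
        IsLocalRing.of_surjective' _ Ideal.Quotient.mk_surjective
      refine (isArtinianRing_iff_isNilpotent_maximalIdeal _).mpr ⟨n, ?_⟩
      rw [← IsLocalRing.map_maximalIdeal_of_surjective _ Ideal.Quotient.mk_surjective,
        ← Ideal.map_pow, Ideal.map_quotient_self]
      rfl
    exact isArtinian_of_surjective_algebraMap (R := R ⧸ maximalIdeal R ^ n)
      Ideal.Quotient.mk_surjective

/-- An endomorphism of the hull is locally a scalar. -/
theorem exists_smul_eq (hf : IsInjectiveHull f) (φ : Module.End R E) (n : ℕ) :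
    ∃ r : R, ∀ e : E, (∀ a ∈ maximalIdeal R ^ n, a • e = 0) → φ e = r • e := by
  let Q := R ⧸ maximalIdeal R ^ n
  let Ψ : (Q →ₗ[R] E) →ₗ[R] E := φ ∘ₗ LinearMap.applyₗ (1 : Q)
  obtain ⟨q, hq⟩ := (applyₗ_bijective_of_isFiniteLength hf
    (isFiniteLength_quotient_pow (R := R) n)).2 Ψ
  obtain ⟨r, rfl⟩ := Ideal.Quotient.mk_surjective q
  refine ⟨r, fun e he => ?_⟩
  have := LinearMap.congr_fun hq (Submodule.liftQ (maximalIdeal R ^ n)
    (LinearMap.toSpanSingleton R E e) fun a ha => he a ha)
  change r • e = φ ((1 : R) • e) at this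
  rw [one_smul] at this
  exact this.symm

omit [IsNoetherianRing R] in
/-- Scalars killing the `n`-th socle are in the `n`-th power. -/
theorem mem_pow_of_smul (hf : IsInjectiveHull f) {n : ℕ} {r : R}
    (h : ∀ e : E, (∀ a ∈ maximalIdeal R ^ n, a • e = 0) → r • e = 0) :
    r ∈ maximalIdeal R ^ n := by
  let Q := R ⧸ maximalIdeal R ^ n
  have h1 : r ∈ Module.annihilator R (Q →ₗ[R] E) := by
    rw [Module.mem_annihilator]
    refine fun ψ => LinearMap.ext fun q => h _ fun a ha => ?_
    obtain ⟨q, rfl⟩ := Submodule.mkQ_surjective (maximalIdeal R ^ n) q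
    rw [← map_smul, ← map_smul, show Submodule.mkQ (maximalIdeal R ^ n) (a • q) = 0 from
      (Submodule.Quotient.mk_eq_zero _).mpr (Ideal.mul_mem_right q _ ha), map_zero]
  rw [← annihilator_dual hf Q, Ideal.annihilator_quotient] at h1
  exact h1

/-- The endomorphism ring of the hull is the completion. -/
theorem exists_end_equiv (hf : IsInjectiveHull f) :
    ∃ Θ : AdicCompletion (maximalIdeal R) R ≃ₐ[R] Module.End R E,
      ∀ (s : AdicCompletion.AdicCauchySequence (maximalIdeal R) R) (e : E) (n : ℕ),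
        (∀ a ∈ maximalIdeal R ^ n, a • e = 0) →
          Θ (AdicCompletion.mk (maximalIdeal R) R s) e = s n • e := by
  obtain ⟨Θ, hΘ⟩ := exists_completion_action (isPowerTorsion_hull hf)
  refine ⟨AlgEquiv.ofBijective Θ ⟨(injective_iff_map_eq_zero Θ).mpr fun x hx => ?_, fun φ => ?_⟩,
    hΘ⟩
  · obtain ⟨s, rfl⟩ := AdicCompletion.mk_surjective _ R x
    refine AdicCompletion.ext_evalₐ fun n => ?_
    rw [AdicCompletion.evalₐ_mk, map_zero, Ideal.Quotient.eq_zero_iff_mem]
    refine mem_pow_of_smul hf fun e he => ?_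
    rw [← hΘ s e n he, hx]
    rfl
  · choose r hr using exists_smul_eq hf φ
    have hr' : ∀ {m n : ℕ}, m ≤ n → r m - r n ∈ maximalIdeal R ^ m := fun {m n} hmn =>
      mem_pow_of_smul hf fun e he => by
        rw [sub_smul, ← hr m e he, ← hr n e fun a ha => he a (Ideal.pow_le_pow_right hmn ha),
          sub_self]
    let s : AdicCompletion.AdicCauchySequence (maximalIdeal R) R := ⟨r, fun {m n} hmn => by
      rw [SModEq.sub_mem, smul_eq_mul, Ideal.mul_top]
      exact hr' hmn⟩
    refine ⟨AdicCompletion.mk _ R s, LinearMap.ext fun e => ?_⟩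
    obtain ⟨n, hn⟩ := isPowerTorsion_hull hf e
    rw [hΘ s e n hn, hr n e hn]

/-- The hull of the residue field is Artinian. -/
theorem isArtinian_hull (hf : IsInjectiveHull f) : IsArtinian R E := by
  obtain ⟨Θ, hΘ⟩ := exists_end_equiv hf
  have : IsNoetherianRing (AdicCompletion (maximalIdeal R) R) :=
    AdicNoeth.isNoetherianRing_adicCompletion _
  have hstab : ∀ (x : AdicCompletion (maximalIdeal R) R) (N : Submodule R E) (e : E), e ∈ N →
      Θ x e ∈ N := fun x N e he => by
    obtain ⟨s, rfl⟩ := AdicCompletion.mk_surjective _ R x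
    obtain ⟨n, hn⟩ := isPowerTorsion_hull hf e
    rw [hΘ s e n hn]
    exact N.smul_mem _ he
  let A : Submodule R E → Ideal (AdicCompletion (maximalIdeal R) R) := fun N =>
    { carrier := {x | ∀ e ∈ N, Θ x e = 0}
      add_mem' := fun {x y} hx hy e he => by
        rw [map_add, LinearMap.add_apply, hx e he, hy e he, add_zero]
      zero_mem' := fun e _ => by rw [map_zero, LinearMap.zero_apply]
      smul_mem' := fun c x hx e he => by
        rw [smul_eq_mul, mul_comm, map_mul, Module.End.mul_apply, hx _ (hstab c N e he)] }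
  have hanti : StrictAnti A := by
    intro N N' hlt
    refine lt_of_le_of_ne (fun x hx e he => hx e (hlt.le he)) fun heq => ?_
    obtain ⟨e, he', he⟩ := SetLike.exists_of_lt hlt
    obtain ⟨ψ, hψ⟩ := exists_apply_ne_zero hf (x := N.mkQ e)
      (fun h => he ((Submodule.Quotient.mk_eq_zero N).mp h))
    obtain ⟨x, hx⟩ := Θ.surjective (ψ ∘ₗ N.mkQ : Module.End R E)
    have hxA : x ∈ A N := fun z hz => by
      rw [hx, LinearMap.comp_apply, Submodule.mkQ_apply, (Submodule.Quotient.mk_eq_zero N).mpr hz,
        map_zero]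
    rw [← heq] at hxA
    have := hxA e he'
    rw [hx] at this
    exact hψ this
  exact StrictMono.wellFoundedLT (f := OrderDual.toDual ∘ A) hanti.dual_right

/-- Artinian modules over a local ring are the torsion modules with finite socle. -/
theorem isArtinian_iff (hf : IsInjectiveHull f) (M : Type u) [AddCommGroup M] [Module R M] :
    IsArtinian R M ↔ (IsPowerTorsion (maximalIdeal R) M ∧
      Module.Finite (R ⧸ maximalIdeal R) ↥(LocCoh.torsionBy (maximalIdeal R) M)) := by
  constructor
  · intro hM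
    refine ⟨fun y => ?_, ?_⟩
    · let c : ℕ →o (Submodule R M)ᵒᵈ :=
        ⟨fun n => OrderDual.toDual (maximalIdeal R ^ n • (R ∙ y)), fun m n hmn =>
          Submodule.smul_mono_left (Ideal.pow_le_pow_right hmn)⟩
      obtain ⟨n, hn⟩ := IsArtinian.monotone_stabilizes c
      refine ⟨n, fun a ha => ?_⟩
      have heq : maximalIdeal R ^ n • (R ∙ y) =
          maximalIdeal R • (maximalIdeal R ^ n • (R ∙ y)) := by
        rw [← smul_assoc, smul_eq_mul, ← pow_succ']
        exact hn (n + 1) (Nat.le_succ n)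
      have hfg : (maximalIdeal R ^ n • (R ∙ y)).FG :=
        (Submodule.fg_span_singleton y).of_le Submodule.smul_le_right
      have hbot := Submodule.eq_bot_of_le_smul_of_le_jacobson_bot (maximalIdeal R) _ hfg heq.le
        (maximalIdeal_le_jacobson _)
      have := Submodule.smul_mem_smul ha (Submodule.mem_span_singleton_self (R := R) y)
      rwa [hbot, Submodule.mem_bot] at this
    · let : Field (R ⧸ maximalIdeal R) := Ideal.Quotient.field _
      have : IsArtinian R ↥(LocCoh.torsionBy (maximalIdeal R) M) := inferInstance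
      have : IsArtinian (R ⧸ maximalIdeal R) ↥(LocCoh.torsionBy (maximalIdeal R) M) :=
        isArtinian_of_tower R this
      exact (IsSemisimpleModule.finite_tfae.out 2 0).mp this
  · rintro ⟨htor, hfin⟩
    let : Field (R ⧸ maximalIdeal R) := Ideal.Quotient.field _
    obtain ⟨g, hg⟩ := exists_embedding hf M htor _ rfl
    have := isArtinian_hull hf
    exact isArtinian_of_injective g hg

/-- The dual of a finite module is Artinian. -/
theorem isArtinian_dual (hf : IsInjectiveHull f) (N : Type u) [AddCommGroup N] [Module R N]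
    [Module.Finite R N] : IsArtinian R (N →ₗ[R] E) := by
  obtain ⟨n, π, hπ⟩ := Module.Finite.exists_fin' R N
  have := isArtinian_hull hf
  refine isArtinian_of_injective (LinearMap.pi fun i =>
    LinearMap.applyₗ (R := R) (M₂ := E) (π (Pi.single i 1))) fun a b h => ?_
  refine LinearMap.ext fun y => ?_
  obtain ⟨c, rfl⟩ := hπ y
  conv_lhs => rw [pi_eq_sum_univ' c]
  conv_rhs => rw [pi_eq_sum_univ' c]
  simp only [map_sum, map_smul]
  exact Finset.sum_congr rfl fun i _ => congrArg (c i • ·) (congrFun h i)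

/-- Over a complete ring endomorphisms of the hull are scalars. -/
theorem exists_smul_of_complete (hf : IsInjectiveHull f) [IsAdicComplete (maximalIdeal R) R]
    (φ : Module.End R E) : ∃ r : R, ∀ e, φ e = r • e := by
  obtain ⟨Θ, -⟩ := exists_end_equiv hf
  obtain ⟨x, rfl⟩ := Θ.surjective φ
  refine ⟨(AdicCompletion.ofAlgEquiv (maximalIdeal R)).symm x, fun e => ?_⟩
  conv_lhs => rw [← (AdicCompletion.ofAlgEquiv (maximalIdeal R)).apply_symm_apply x]
  generalize (AdicCompletion.ofAlgEquiv (maximalIdeal R)).symm x = r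
  rw [show AdicCompletion.ofAlgEquiv (maximalIdeal R) r = algebraMap R _ r from
    (AdicCompletion.ofAlgEquiv (maximalIdeal R)).commutes r, AlgEquiv.commutes]
  rfl

/-- Matlis duality, finite modules. -/
theorem applyₗ_bijective_of_finite (hf : IsInjectiveHull f) [IsAdicComplete (maximalIdeal R) R]
    (M : Type u) [AddCommGroup M] [Module R M] [Module.Finite R M] :
    Function.Bijective (LinearMap.applyₗ : M →ₗ[R] (M →ₗ[R] E) →ₗ[R] E) := by
  classical
  have := hf.isInjective
  refine ⟨applyₗ_injective hf M, fun Φ => ?_⟩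
  obtain ⟨n, π, hπ⟩ := Module.Finite.exists_fin' R M
  let j : (M →ₗ[R] E) →ₗ[R] (Fin n → E) := LinearMap.pi fun i =>
    LinearMap.applyₗ (R := R) (M₂ := E) (π (Pi.single i 1))
  have hj : Function.Injective j := fun a b h => LinearMap.ext fun y => by
    obtain ⟨c, rfl⟩ := hπ y
    conv_lhs => rw [pi_eq_sum_univ' c]
    conv_rhs => rw [pi_eq_sum_univ' c]
    simp only [map_sum, map_smul]
    exact Finset.sum_congr rfl fun i _ => congrArg (c i • ·) (congrFun h i)
  obtain ⟨Ψ, hΨ⟩ := Module.Injective.extension_property R E _ _ j hj Φ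
  choose r hr using fun i => exists_smul_of_complete hf (Ψ ∘ₗ LinearMap.single R (fun _ => E) i)
  refine ⟨∑ i, r i • π (Pi.single i 1), LinearMap.ext fun ψ => ?_⟩
  rw [← hΨ, LinearMap.comp_apply, ← Finset.univ_sum_single (j ψ), map_sum]
  rw [map_sum, LinearMap.sum_apply]
  refine Finset.sum_congr rfl fun i _ => ?_
  rw [map_smul, LinearMap.smul_apply]
  exact (hr i _).symm

/-- Matlis duality, Artinian modules. -/
theorem duality_artinian (hf : IsInjectiveHull f) [IsAdicComplete (maximalIdeal R) R]
    (M : Type u) [AddCommGroup M] [Module R M] [IsArtinian R M] :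
    Module.Finite R (M →ₗ[R] E) ∧
      Function.Bijective (LinearMap.applyₗ : M →ₗ[R] (M →ₗ[R] E) →ₗ[R] E) := by
  classical
  have := hf.isInjective
  let : Field (R ⧸ maximalIdeal R) := Ideal.Quotient.field _
  obtain ⟨htor, hfin⟩ := (isArtinian_iff hf M).mp ‹_›
  obtain ⟨i, hi⟩ := exists_embedding hf M htor _ rfl
  generalize Module.finrank (R ⧸ maximalIdeal R) ↥(LocCoh.torsionBy (maximalIdeal R) M) = n at i hi
  let ψ : Fin n → (M →ₗ[R] E) := fun k => LinearMap.proj k ∘ₗ i
  have hdec : ∀ θ : (Fin n → E) →ₗ[R] E, ∃ c : Fin n → R, θ = ∑ k, c k • LinearMap.proj k := by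
    intro θ
    choose c hc using fun k => exists_smul_of_complete hf (θ ∘ₗ LinearMap.single R (fun _ => E) k)
    refine ⟨c, LinearMap.ext fun y => ?_⟩
    conv_lhs => rw [← Finset.univ_sum_single y]
    rw [map_sum, LinearMap.sum_apply]
    exact Finset.sum_congr rfl fun k _ => hc k (y k)
  have hgen : ∀ φ : M →ₗ[R] E, ∃ c : Fin n → R, φ = ∑ k, c k • ψ k := by
    intro φ
    obtain ⟨θ, rfl⟩ := Module.Injective.extension_property R E M _ i hi φ
    obtain ⟨c, rfl⟩ := hdec θ
    exact ⟨c, LinearMap.ext fun x => by simp [ψ]⟩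
  refine ⟨⟨Submodule.fg_def.mpr ⟨Set.range ψ, Set.finite_range ψ, eq_top_iff.mpr fun φ _ => ?_⟩⟩,
    applyₗ_injective hf M, fun Φ => ?_⟩
  · obtain ⟨c, rfl⟩ := hgen φ
    exact Submodule.sum_mem _ fun k _ => Submodule.smul_mem _ _ (Submodule.subset_span ⟨k, rfl⟩)
  · let y : Fin n → E := fun k => Φ (ψ k)
    have hy : y ∈ LinearMap.range i := by
      by_contra hy
      obtain ⟨θ0, hθ0⟩ := exists_apply_ne_zero hf (x := (LinearMap.range i).mkQ y)
        fun h => hy ((Submodule.Quotient.mk_eq_zero _).mp h)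
      obtain ⟨c, hc⟩ := hdec (θ0 ∘ₗ (LinearMap.range i).mkQ)
      have h0 : (∑ k, c k • ψ k) = 0 := LinearMap.ext fun x => by
        have := LinearMap.congr_fun hc (i x)
        rw [LinearMap.comp_apply, Submodule.mkQ_apply,
          (Submodule.Quotient.mk_eq_zero _).mpr (LinearMap.mem_range_self i x), map_zero] at this
        rw [LinearMap.zero_apply, this]
        simp [ψ]
      apply hθ0
      rw [← LinearMap.comp_apply, hc]
      have := congrArg Φ h0
      rw [map_zero, map_sum] at this
      rw [← this, LinearMap.sum_apply]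
      exact Finset.sum_congr rfl fun k _ => by rw [map_smul]; rfl
    obtain ⟨x, hx⟩ := hy
    refine ⟨x, LinearMap.ext fun φ => ?_⟩
    obtain ⟨c, rfl⟩ := hgen φ
    change (∑ k, c k • ψ k) x = _
    rw [map_sum, LinearMap.sum_apply]
    exact Finset.sum_congr rfl fun k _ => by
      rw [map_smul, LinearMap.smul_apply]
      exact congrArg (c k • ·) (congrFun hx k)

end Groth.Agent.MatlisDual
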