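import Groth.Agent.MatlisDual.Coextend
import Groth.Agent.S11174
import Mathlib.LinearAlgebra.TensorProduct.Pi
import Mathlib.LinearAlgebra.TensorProduct.RightExactness
import Mathlib.LinearAlgebra.TensorProduct.Quotient
import Mathlib.RingTheory.Flat.Basic

/-!
# Flat base change of the hull
-/

universe u

open InjHull LocCoh IsLocalRing TensorProduct

namespace Groth.Agent.MatlisDual

/-- Homomorphisms from a cyclic module are torsion elements. -/
theorem nonempty_hom_quotient_equiv {A : Type u} [CommRing A] (a : Ideal A) (M : Type u)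
    [AddCommGroup M] [Module A M] :
    Nonempty (((A ⧸ a) →ₗ[A] M) ≃ₗ[A] LocCoh.torsionBy a M) := by
  let Φ : ((A ⧸ a) →ₗ[A] M) →ₗ[A] LocCoh.torsionBy a M :=
    { toFun := fun ψ => ⟨ψ (Submodule.Quotient.mk 1), (Submodule.mem_torsionBySet_iff _ _).mpr
        fun r => by
          change (r : A) • ψ _ = 0
          rw [← map_smul, ← Submodule.Quotient.mk_smul, (Submodule.Quotient.mk_eq_zero a).mpr
            (by simp), map_zero]⟩
      map_add' := fun _ _ => rfl
      map_smul' := fun _ _ => rfl }
  refine ⟨LinearEquiv.ofBijective Φ ⟨fun p q h => LinearMap.ext fun z => ?_, fun x => ?_⟩⟩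
  · obtain ⟨r, rfl⟩ := Submodule.mkQ_surjective a z
    have h1 : p (Submodule.Quotient.mk 1) = q (Submodule.Quotient.mk 1) := congrArg Subtype.val h
    rw [show a.mkQ r = r • (Submodule.Quotient.mk 1 : A ⧸ a) by
      rw [← Submodule.Quotient.mk_smul, smul_eq_mul, mul_one]; rfl, map_smul, map_smul, h1]
  · exact ⟨Submodule.liftQ a (LinearMap.toSpanSingleton A M x) fun r hr =>
      (Submodule.mem_torsionBySet_iff _ _).mp x.2 ⟨r, hr⟩, Subtype.ext (one_smul A (x : M))⟩

variable {A B : Type u} [CommRing A] [CommRing B] [Algebra A B] [Module.Flat A B]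

/-- The torsion of a flat base change. -/
theorem range_baseChange_torsionBy {a : Ideal A} (ha : a.FG) (M : Type u) [AddCommGroup M]
    [Module A M] :
    LinearMap.range ((LocCoh.torsionBy a M).subtype.baseChange B) =
      LocCoh.torsionBy (a.map (algebraMap A B)) (B ⊗[A] M) := by
  classical
  refine le_antisymm ?_ fun x hx => ?_
  · rintro _ ⟨y, rfl⟩
    rw [Submodule.mem_torsionBySet_iff]
    rintro ⟨c, hc⟩
    change c • (LocCoh.torsionBy a M).subtype.baseChange B y = 0
    rw [← map_smul]
    convert map_zero ((LocCoh.torsionBy a M).subtype.baseChange B)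
    induction hc using Submodule.span_induction generalizing y with
    | mem c hc =>
      obtain ⟨r, hr, rfl⟩ := hc
      induction y using TensorProduct.induction_on with
      | zero => simp
      | add u v hu hv => rw [smul_add, hu, hv, add_zero]
      | tmul b m =>
        rw [algebraMap_smul, ← TensorProduct.tmul_smul,
          show r • m = 0 from Subtype.ext ((Submodule.mem_torsionBySet_iff _ _).mp m.2 ⟨r, hr⟩),
          TensorProduct.tmul_zero]
    | zero => simp
    | add u v _ _ hu hv => rw [add_smul, hu, hv, add_zero]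
    | smul c u _ hu => rw [smul_assoc, hu, smul_zero]
  · obtain ⟨n, s, hs⟩ := Submodule.fg_iff_exists_fin_generating_family.mp ha
    let μ : M →ₗ[A] (Fin n → M) := LinearMap.pi fun i => LinearMap.lsmul A M (s i)
    have hex : Function.Exact (LocCoh.torsionBy a M).subtype μ := by
      intro m
      refine ⟨fun hm => ⟨⟨m, (Submodule.mem_torsionBySet_iff _ _).mpr fun r => ?_⟩, rfl⟩, ?_⟩
      · obtain ⟨c, hc⟩ := r
        have hr : c ∈ Submodule.span A (Set.range s) := hs ▸ hc
        change c • m = 0
        clear hc
        induction hr using Submodule.span_induction with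
        | mem c hc => obtain ⟨i, rfl⟩ := hc; exact congrFun hm i
        | zero => simp
        | add u v _ _ hu hv => rw [add_smul, hu, hv, add_zero]
        | smul c u _ hu => rw [smul_assoc, hu, smul_zero]
      · rintro ⟨y, rfl⟩
        funext i
        exact (Submodule.mem_torsionBySet_iff _ _).mp y.2
          ⟨s i, hs ▸ Submodule.subset_span ⟨i, rfl⟩⟩
    have hex' := Module.Flat.lTensor_exact B hex
    refine (hex' x).mp ((TensorProduct.piRight A A B (fun _ : Fin n => M)).injective ?_)
    rw [map_zero]
    funext i
    have hi : TensorProduct.piRight A A B (fun _ : Fin n => M) (μ.lTensor B x) i =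
        algebraMap A B (s i) • x := by
      rw [algebraMap_smul]
      clear hx
      induction x using TensorProduct.induction_on with
      | zero => simp
      | add u v hu hv => rw [map_add, map_add, Pi.add_apply, hu, hv, smul_add]
      | tmul b m =>
        rw [LinearMap.lTensor_tmul, TensorProduct.piRight_apply, TensorProduct.piRightHom_tmul]
        exact TensorProduct.tmul_smul _ _ _
    rw [hi]
    exact (Submodule.mem_torsionBySet_iff _ _).mp hx
      ⟨_, Ideal.mem_map_of_mem _ (hs ▸ Submodule.subset_span ⟨i, rfl⟩)⟩

theorem baseChange_subtype_injective {M : Type u} [AddCommGroup M] [Module A M]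
    (N : Submodule A M) : Function.Injective (N.subtype.baseChange B) :=
  Module.Flat.lTensor_preserves_injective_linearMap (M := B) N.subtype N.subtype_injective

variable [IsLocalRing A] [IsLocalRing B]

omit [IsLocalRing B] in
/-- Length under flat local base change. -/
theorem length_baseChange {M : Type u} [AddCommGroup M] [Module A M] (hM : IsFiniteLength A M) :
    Module.length B (B ⊗[A] M) =
      Module.length A M * Module.length B (B ⊗[A] ResidueField A) := by
  induction hM with
  | @of_subsingleton M _ _ _ => rw [Module.length_eq_zero, Module.length_eq_zero, zero_mul]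
  | @of_simple_quotient M _ _ N _ _ ih =>
    obtain ⟨e⟩ := nonempty_equiv_residueField (R := A) (M ⧸ N)
    rw [Module.length_eq_add_of_exact (N.subtype.baseChange B) (N.mkQ.baseChange B)
      (baseChange_subtype_injective N) (LinearMap.lTensor_surjective B N.mkQ_surjective)
      (lTensor_exact B (LinearMap.exact_subtype_mkQ N) N.mkQ_surjective),
      Module.length_eq_add_of_exact N.subtype N.mkQ N.subtype_injective N.mkQ_surjective
        (LinearMap.exact_subtype_mkQ N), ih, (e.baseChange A B _ _).length_eq,
      Module.length_eq_one (R := A) (M := M ⧸ N), add_mul, one_mul]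

variable [IsNoetherianRing A] {E : Type u} [AddCommGroup E] [Module A E]
  {f : ResidueField A →ₗ[A] E}

omit [IsLocalRing B] in
/-- The numerical condition for the base change of a hull. -/
theorem length_hom_baseChange (hf : IsInjectiveHull f) (n : ℕ) :
    Module.length B (B ⧸ (maximalIdeal A ^ n).map (algebraMap A B)) =
      Module.length B ((B ⧸ (maximalIdeal A ^ n).map (algebraMap A B)) →ₗ[B] (B ⊗[A] E)) := by
  obtain ⟨e1⟩ := nonempty_hom_quotient_equiv (maximalIdeal A ^ n) E
  obtain ⟨e2⟩ := nonempty_hom_quotient_equiv ((maximalIdeal A ^ n).map (algebraMap A B)) (B ⊗[A] E)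
  have hfl := isFiniteLength_quotient_pow (R := A) n
  have hlE : Module.length A (LocCoh.torsionBy (maximalIdeal A ^ n) E) =
      Module.length A (A ⧸ maximalIdeal A ^ n) := by
    rw [← e1.length_eq, length_dual hf hfl]
  have hflE : IsFiniteLength A (LocCoh.torsionBy (maximalIdeal A ^ n) E) :=
    Module.length_ne_top_iff.mp (by rw [hlE]; exact Module.length_ne_top_iff.mpr hfl)
  have h2 : Module.length B ((B ⧸ (maximalIdeal A ^ n).map (algebraMap A B)) →ₗ[B] (B ⊗[A] E)) =
      Module.length B (LocCoh.torsionBy ((maximalIdeal A ^ n).map (algebraMap A B)) (B ⊗[A] E)) :=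
    LinearEquiv.length_eq e2
  have h3 : Module.length B (B ⊗[A] LocCoh.torsionBy (maximalIdeal A ^ n) E) =
      Module.length B (LinearMap.range ((LocCoh.torsionBy (maximalIdeal A ^ n) E).subtype.baseChange B)) :=
    LinearEquiv.length_eq (LinearEquiv.ofInjective _ (baseChange_subtype_injective _))
  rw [(Algebra.TensorProduct.quotIdealMapEquivTensorQuot B (maximalIdeal A ^ n)).toLinearEquiv.length_eq,
    length_baseChange hfl, h2,
    ← range_baseChange_torsionBy (maximalIdeal A ^ n).fg_of_isNoetherianRing E,
    ← h3,
    length_baseChange hflE, hlE]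

/-- Flat base change with `mB = m_B` preserves the hull of the residue field. -/
theorem exists_hull_baseChange [IsNoetherianRing B]
    (hm : (maximalIdeal A).map (algebraMap A B) = maximalIdeal B) (hf : IsInjectiveHull f) :
    ∃ g : ResidueField B →ₗ[B] B ⊗[A] E, IsInjectiveHull g := by
  let u : B ⊗[A] E := (1 : B) ⊗ₜ f 1
  have htor : IsPowerTorsion (maximalIdeal B) (B ⊗[A] E) := by
    intro x
    induction x using TensorProduct.induction_on with
    | zero => exact ⟨0, fun _ _ => smul_zero _⟩
    | add x y hx hy =>
      obtain ⟨m, hm'⟩ := hx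
      obtain ⟨k, hk⟩ := hy
      exact ⟨max m k, fun a ha => by
        rw [smul_add, hm' a (Ideal.pow_le_pow_right (le_max_left _ _) ha),
          hk a (Ideal.pow_le_pow_right (le_max_right _ _) ha), add_zero]⟩
    | tmul b e =>
      obtain ⟨k, hk⟩ := isPowerTorsion_hull hf e
      refine ⟨k, fun a ha => ?_⟩
      rw [← hm, ← Ideal.map_pow] at ha
      induction ha using Submodule.span_induction with
      | mem c hc =>
        obtain ⟨r, hr, rfl⟩ := hc
        rw [algebraMap_smul, ← TensorProduct.tmul_smul, hk r hr, TensorProduct.tmul_zero]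
      | zero => simp
      | add c d _ _ hc hd => rw [add_smul, hc, hd, add_zero]
      | smul c d _ hd => rw [smul_assoc, hd, smul_zero]
  have hu : ∀ c ∈ maximalIdeal B, c • u = 0 := by
    intro c hc
    rw [← hm] at hc
    induction hc using Submodule.span_induction with
    | mem c hc =>
      obtain ⟨r, hr, rfl⟩ := hc
      rw [algebraMap_smul, ← TensorProduct.tmul_smul, smul_range f hr, TensorProduct.tmul_zero]
    | zero => simp
    | add c d _ _ hc hd => rw [add_smul, hc, hd, add_zero]
    | smul c d _ hd => rw [smul_assoc, hd, smul_zero]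
  let g : ResidueField B →ₗ[B] B ⊗[A] E :=
    Submodule.liftQ (maximalIdeal B) (LinearMap.toSpanSingleton B _ u) hu
  have hsoc : ∀ x : B ⊗[A] E, (∀ a ∈ maximalIdeal B, a • x = 0) → x ∈ LinearMap.range g := by
    intro x hx
    have hx' : x ∈ LocCoh.torsionBy ((maximalIdeal A).map (algebraMap A B)) (B ⊗[A] E) :=
      (Submodule.mem_torsionBySet_iff _ _).mpr fun a => hx a (hm ▸ a.2)
    rw [← range_baseChange_torsionBy (maximalIdeal A).fg_of_isNoetherianRing E] at hx'
    obtain ⟨y, rfl⟩ := hx'
    clear hx
    induction y using TensorProduct.induction_on with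
    | zero => simp
    | add p q hp hq => rw [map_add]; exact Submodule.add_mem _ hp hq
    | tmul b t =>
      obtain ⟨z, hz⟩ := socle_le_range hf.toIsEssentialInj (x := (t : E)) fun a ha =>
        (Submodule.mem_torsionBySet_iff _ _).mp t.2 ⟨a, ha⟩
      obtain ⟨r, rfl⟩ := residue_surjective z
      refine ⟨residue B (r • b), ?_⟩
      change (r • b) • u = b ⊗ₜ[A] (t : E)
      rw [← hz, residue_eq_smul_one, map_smul, TensorProduct.tmul_smul, smul_assoc]
      congr 1
      change b • ((1 : B) ⊗ₜ[A] f 1) = _
      rw [TensorProduct.smul_tmul', smul_eq_mul, mul_one]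
  have hu0 : u ≠ 0 := by
    intro h0
    have hnt : Nontrivial (B ⊗[A] ResidueField A) := by
      have e := Algebra.TensorProduct.quotIdealMapEquivTensorQuot B (maximalIdeal A)
      have : Nontrivial (B ⧸ (maximalIdeal A).map (algebraMap A B)) := by
        rw [hm]; exact inferInstanceAs (Nontrivial (ResidueField B))
      exact e.symm.toEquiv.nontrivial
    have hz : f.lTensor B ((1 : B) ⊗ₜ[A] (1 : ResidueField A)) = 0 := h0
    rw [map_eq_zero_iff _ (Module.Flat.lTensor_preserves_injective_linearMap f hf.injective)] at hz
    obtain ⟨p, hp⟩ := exists_ne (0 : B ⊗[A] ResidueField A)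
    refine hp ?_
    induction p using TensorProduct.induction_on with
    | zero => rfl
    | add p q hp' hq' =>
      by_cases hp0 : p = 0
      · subst hp0
        rw [zero_add] at hp ⊢
        exact hq' hp
      · exact absurd (hp' hp0) hp0
    | tmul b z =>
      obtain ⟨r, rfl⟩ := residue_surjective z
      rw [residue_eq_smul_one, TensorProduct.tmul_smul,
        show b ⊗ₜ[A] (1 : ResidueField A) = b • ((1 : B) ⊗ₜ[A] (1 : ResidueField A)) by
          rw [TensorProduct.smul_tmul', smul_eq_mul, mul_one], hz, smul_zero, smul_zero]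
  have hg : Function.Injective g := (injective_iff_map_eq_zero g).mpr fun z hz => by
    obtain ⟨c, rfl⟩ := residue_surjective z
    refine (residue_eq_zero_iff c).mpr fun hc : IsUnit c => hu0 ?_
    exact hc.smul_eq_zero.mp (show c • u = 0 from hz)
  have hess := isEssentialInj_of_socle hg htor hsoc
  obtain ⟨e, -⟩ := exists_dual_residueField hess
  obtain ⟨g', hg'⟩ := S11174.result B (B ⊗[A] E) htor ⟨e.symm⟩
    (fun n => (maximalIdeal A ^ n).map (algebraMap A B))
    (fun m k hmk => Ideal.map_mono (Ideal.pow_le_pow_right hmk))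
    (fun n => ⟨n, by rw [Ideal.map_pow, hm]⟩) (fun N => ⟨N, by rw [Ideal.map_pow, hm]⟩)
    (length_hom_baseChange hf)
  exact ⟨g', hg'⟩

end Groth.Agent.MatlisDual
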