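import Groth.Agent.InjHullBasic.Noetherian
import Mathlib.RingTheory.LocalRing.ResidueField.Basic
import Mathlib.RingTheory.FiniteLength
import Mathlib.RingTheory.Length
import Mathlib.RingTheory.Nakayama

/-!
# Matlis duality: the local part
-/

universe u

open InjHull LocCoh IsLocalRing

namespace Groth.Agent.MatlisDual

variable {R : Type u} [CommRing R] [IsLocalRing R]

omit [IsLocalRing R] in
/-- A torsion module has socle elements below every nonzero element. -/
lemma exists_socle {I : Ideal R} {M : Type u} [AddCommGroup M] [Module R M] {y : M}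
    (h : ∃ n : ℕ, ∀ a ∈ I ^ n, a • y = 0) (hy : y ≠ 0) :
    ∃ r : R, r • y ≠ 0 ∧ ∀ a ∈ I, a • r • y = 0 := by
  classical
  obtain ⟨j, hj⟩ : ∃ j, Nat.find h = j + 1 := Nat.exists_eq_succ_of_ne_zero fun h0 => by
    have := Nat.find_spec h
    rw [h0, pow_zero] at this
    exact hy (by simpa using this 1 (by simp))
  obtain ⟨r, hr, hr0⟩ : ∃ r ∈ I ^ j, r • y ≠ 0 := by
    by_contra! hall
    exact Nat.find_min h (m := j) (by omega) hall
  refine ⟨r, hr0, fun a ha => ?_⟩
  have := Nat.find_spec h
  rw [hj] at this
  rw [← mul_smul]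
  exact this _ (by rw [pow_succ']; exact Ideal.mul_mem_mul ha hr)

lemma maximalIdeal_smul_residue {a : R} (ha : a ∈ maximalIdeal R) (z : ResidueField R) :
    a • z = 0 := by
  rw [Algebra.smul_def, ResidueField.algebraMap_eq, (residue_eq_zero_iff a).mpr ha, zero_mul]

lemma residue_eq_smul_one (r : R) : residue R r = r • (1 : ResidueField R) := by
  rw [Algebra.smul_def, ResidueField.algebraMap_eq, mul_one]

variable {E : Type u} [AddCommGroup E] [Module R E] {f : ResidueField R →ₗ[R] E}

/-- The socle of the hull is the residue field. -/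
lemma socle_le_range (hf : IsEssentialInj f) {x : E} (hx : ∀ a ∈ maximalIdeal R, a • x = 0) :
    x ∈ LinearMap.range f := by
  by_cases hx0 : x = 0
  · exact hx0 ▸ Submodule.zero_mem _
  obtain ⟨c, z, hz, hc⟩ := InjHullBasic.exists_smul_mem_range hf hx0
  have hu : IsUnit c := by
    by_contra h
    exact hc (hx c h)
  exact ⟨(hu.unit⁻¹ : Rˣ) • z, by
    rw [Units.smul_def, map_smul, hz, smul_smul, IsUnit.val_inv_mul, one_smul]⟩

lemma smul_range (f : ResidueField R →ₗ[R] E) {a : R} (ha : a ∈ maximalIdeal R)
    (z : ResidueField R) : a • f z = 0 := by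
  rw [← map_smul, maximalIdeal_smul_residue ha, map_zero]

/-- A nonzero element is not killed by the dual. -/
theorem exists_apply_ne_zero (hf : IsInjectiveHull f) {G : Type u} [AddCommGroup G] [Module R G]
    {x : G} (hx : x ≠ 0) : ∃ φ : G →ₗ[R] E, φ x ≠ 0 := by
  have := hf.isInjective
  let q : R →ₗ[R] G := LinearMap.toSpanSingleton R G x
  let g : R →ₗ[R] E := LinearMap.toSpanSingleton R E (f 1)
  have hker : LinearMap.ker q ≤ LinearMap.ker g := fun r (hr : r • x = 0) => smul_range f
    (show r ∈ maximalIdeal R from fun hu : IsUnit r => hx (hu.smul_eq_zero.mp hr)) 1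
  obtain ⟨φ, hφ⟩ := InjHullBasic.exists_range_lift q g hker
  obtain ⟨ψ, hψ⟩ := Module.Injective.extension_property R E _ G (LinearMap.range q).subtype
    (Submodule.subtype_injective _) φ
  refine ⟨ψ, fun h => one_ne_zero (α := ResidueField R) ?_⟩
  have h1 := (LinearMap.congr_fun hψ ⟨q 1, LinearMap.mem_range_self _ _⟩).trans (hφ 1)
  simp only [LinearMap.comp_apply, Submodule.subtype_apply, q, g,
    LinearMap.toSpanSingleton_apply, one_smul, h] at h1
  exact (map_eq_zero_iff f hf.injective).mp h1.symm

theorem applyₗ_injective (hf : IsInjectiveHull f) (G : Type u) [AddCommGroup G] [Module R G] :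
    Function.Injective (LinearMap.applyₗ : G →ₗ[R] (G →ₗ[R] E) →ₗ[R] E) := by
  refine (injective_iff_map_eq_zero _).mpr fun x hx => by_contra fun h => ?_
  obtain ⟨φ, hφ⟩ := exists_apply_ne_zero hf h
  exact hφ (LinearMap.congr_fun hx φ)

theorem annihilator_dual (hf : IsInjectiveHull f) (G : Type u) [AddCommGroup G] [Module R G] :
    Module.annihilator R G = Module.annihilator R (G →ₗ[R] E) := by
  ext a
  simp only [Module.mem_annihilator]
  refine ⟨fun h φ => LinearMap.ext fun x => ?_, fun h x => by_contra fun hx => ?_⟩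
  · rw [LinearMap.smul_apply, ← map_smul, h, map_zero, LinearMap.zero_apply]
  · obtain ⟨φ, hφ⟩ := exists_apply_ne_zero hf hx
    exact hφ (by rw [map_smul, ← LinearMap.smul_apply, h, LinearMap.zero_apply])

/-- The dual of the residue field is the residue field. -/
theorem exists_dual_residueField (hf : IsEssentialInj f) :
    ∃ e : ResidueField R ≃ₗ[R] (ResidueField R →ₗ[R] E), ∀ z w, e z w = f (z * w) := by
  let Φ : ResidueField R →ₗ[R] (ResidueField R →ₗ[R] E) :=
    { toFun := fun z => f ∘ₗ LinearMap.mul R (ResidueField R) z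
      map_add' := fun x y => by ext; simp
      map_smul' := fun r x => by ext; simp }
  refine ⟨LinearEquiv.ofBijective Φ ⟨(injective_iff_map_eq_zero Φ).mpr fun z hz => ?_,
    fun ψ => ?_⟩, fun z w => rfl⟩
  · have := LinearMap.congr_fun hz 1
    exact (map_eq_zero_iff f hf.injective).mp (by simpa [Φ] using this)
  · obtain ⟨z, hz⟩ := socle_le_range hf (x := ψ 1) fun a ha => by
      rw [← map_smul, maximalIdeal_smul_residue ha, map_zero]
    refine ⟨z, LinearMap.ext fun w => ?_⟩
    obtain ⟨w, rfl⟩ := residue_surjective w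
    change f (z * residue R w) = ψ (residue R w)
    rw [residue_eq_smul_one, Algebra.mul_smul_comm, mul_one, map_smul, map_smul, hz]

/-- Every simple module is the residue field. -/
lemma nonempty_equiv_residueField (Q : Type u) [AddCommGroup Q] [Module R Q] [IsSimpleModule R Q] :
    Nonempty (Q ≃ₗ[R] ResidueField R) := by
  obtain ⟨J, hJ, ⟨e⟩⟩ := isSimpleModule_iff_quot_maximal.mp ‹IsSimpleModule R Q›
  obtain rfl := eq_maximalIdeal hJ
  exact ⟨e⟩

lemma lcomp_exact (hf : IsInjectiveHull f) {A B C : Type u} [AddCommGroup A] [Module R A]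
    [AddCommGroup B] [Module R B] [AddCommGroup C] [Module R C] {i : A →ₗ[R] B} {q : B →ₗ[R] C}
    (hi : Function.Injective i) (hq : Function.Surjective q) (hex : Function.Exact i q) :
    Function.Injective (LinearMap.lcomp R E q) ∧ Function.Surjective (LinearMap.lcomp R E i) ∧
      Function.Exact (LinearMap.lcomp R E q) (LinearMap.lcomp R E i) := by
  have := hf.isInjective
  refine ⟨fun a b h => LinearMap.ext fun c => ?_, fun a => ?_, fun φ => ⟨fun h => ?_, ?_⟩⟩
  · obtain ⟨b', rfl⟩ := hq c
    exact LinearMap.congr_fun h b'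
  · obtain ⟨h, hh⟩ := Module.Injective.extension_property R E A B i hi a
    exact ⟨h, hh⟩
  · have hker : LinearMap.ker q ≤ LinearMap.ker φ := fun b hb => by
      obtain ⟨a, rfl⟩ := (hex b).mp hb
      exact LinearMap.congr_fun h a
    obtain ⟨ψ, hψ⟩ := InjHullBasic.exists_range_lift q φ hker
    refine ⟨ψ ∘ₗ
      (LinearEquiv.ofTop _ (LinearMap.range_eq_top.mpr hq)).symm.toLinearMap, ?_⟩
    exact LinearMap.ext fun b => hψ b
  · rintro ⟨χ, rfl⟩
    exact LinearMap.ext fun a => by simp [hex.apply_apply_eq_zero]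

/-- Matlis duality preserves length. -/
theorem length_dual (hf : IsInjectiveHull f) {M : Type u} [AddCommGroup M] [Module R M]
    (hM : IsFiniteLength R M) : Module.length R (M →ₗ[R] E) = Module.length R M := by
  induction hM with
  | @of_subsingleton M _ _ _ =>
    have : Subsingleton (M →ₗ[R] E) := ⟨fun a b => LinearMap.ext fun x => by
      rw [Subsingleton.elim x 0, map_zero, map_zero]⟩
    rw [Module.length_eq_zero, Module.length_eq_zero]
  | @of_simple_quotient M _ _ N _ _ ih =>
    obtain ⟨h1, h2, h3⟩ := lcomp_exact hf N.subtype_injective N.mkQ_surjective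
      (LinearMap.exact_subtype_mkQ N)
    rw [Module.length_eq_add_of_exact _ _ h1 h2 h3, Module.length_eq_add_of_exact N.subtype N.mkQ
      N.subtype_injective N.mkQ_surjective (LinearMap.exact_subtype_mkQ N), ih, add_comm]
    obtain ⟨e⟩ := nonempty_equiv_residueField (R := R) (M ⧸ N)
    obtain ⟨d, -⟩ := exists_dual_residueField hf.toIsEssentialInj
    congr 1
    exact (((e.congrLeft E R)).trans d.symm).length_eq.trans e.symm.length_eq

/-- Matlis biduality for finite length modules. -/
theorem applyₗ_bijective_of_isFiniteLength (hf : IsInjectiveHull f) {M : Type u} [AddCommGroup M]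
    [Module R M] (hM : IsFiniteLength R M) :
    Function.Bijective (LinearMap.applyₗ : M →ₗ[R] (M →ₗ[R] E) →ₗ[R] E) := by
  have hinj := applyₗ_injective hf M
  set a : M →ₗ[R] (M →ₗ[R] E) →ₗ[R] E := LinearMap.applyₗ
  have hfin : Module.length R M ≠ ⊤ := Module.length_ne_top_iff.mpr hM
  have hD : IsFiniteLength R (M →ₗ[R] E) :=
    Module.length_ne_top_iff.mp (by rw [length_dual hf hM]; exact hfin)
  have hlen := Module.length_eq_add_of_exact a (LinearMap.range a).mkQ hinj
    (Submodule.mkQ_surjective _) (LinearMap.exact_map_mkQ_range a)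
  rw [length_dual hf hD, length_dual hf hM] at hlen
  have h0 : Module.length R (((M →ₗ[R] E) →ₗ[R] E) ⧸ LinearMap.range a) = 0 :=
    ENat.add_right_injective_of_ne_top hfin (hlen.symm.trans (add_zero _).symm)
  refine ⟨hinj, LinearMap.range_eq_top.mp ?_⟩
  exact Submodule.Quotient.subsingleton_iff.mp (Module.length_eq_zero_iff.mp h0)

/-- A torsion module with finite socle embeds in a finite power of the hull. -/
theorem exists_embedding (hf : IsInjectiveHull f) (M : Type u) [AddCommGroup M] [Module R M]
    (hM : IsPowerTorsion (maximalIdeal R) M) (n : ℕ)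
    [Module.Finite (R ⧸ maximalIdeal R) ↥(LocCoh.torsionBy (maximalIdeal R) M)]
    (hn : Module.finrank (R ⧸ maximalIdeal R) ↥(LocCoh.torsionBy (maximalIdeal R) M) = n) :
    ∃ g : M →ₗ[R] (Fin n → E), Function.Injective g := by
  have := hf.isInjective
  let : Field (R ⧸ maximalIdeal R) := Ideal.Quotient.field _
  let b := (Module.finBasisOfFinrankEq (R ⧸ maximalIdeal R) _ hn).equivFun
  let e : LocCoh.torsionBy (maximalIdeal R) M →ₗ[R] (Fin n → E) :=
    LinearMap.pi fun i => f ∘ₗ LinearMap.proj i ∘ₗ (b.restrictScalars R).toLinearMap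
  have he : Function.Injective e := fun x y h => b.injective (funext fun i =>
    hf.injective (congrFun h i))
  obtain ⟨g, hg⟩ := Module.Injective.extension_property R (Fin n → E) _ M
    (LocCoh.torsionBy (maximalIdeal R) M).subtype (Submodule.subtype_injective _) e
  refine ⟨g, (injective_iff_map_eq_zero g).mpr fun y hy => by_contra fun hy0 => ?_⟩
  obtain ⟨r, hr, hsoc⟩ := exists_socle (hM y) hy0
  have hmem : r • y ∈ LocCoh.torsionBy (maximalIdeal R) M :=
    (Submodule.mem_torsionBySet_iff _ _).mpr fun a => hsoc a a.2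
  have h := LinearMap.congr_fun hg ⟨r • y, hmem⟩
  rw [LinearMap.comp_apply, Submodule.subtype_apply, map_smul, hy, smul_zero] at h
  exact hr (congrArg Subtype.val ((map_eq_zero_iff e he).mp h.symm))

/-- A torsion module with simple socle dual is an essential extension of the residue field. -/
theorem exists_isEssentialInj (hE : IsPowerTorsion (maximalIdeal R) E)
    (hs : IsSimpleModule R (ResidueField R →ₗ[R] E)) :
    ∃ g : ResidueField R →ₗ[R] E, IsEssentialInj g := by
  have := IsSimpleModule.nontrivial R (ResidueField R →ₗ[R] E)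
  obtain ⟨g, hg⟩ := exists_ne (0 : ResidueField R →ₗ[R] E)
  have hinj : Function.Injective g := (injective_iff_map_eq_zero g).mpr fun z hz => by_contra
    fun hz0 => hg (LinearMap.ext fun w => by
      obtain ⟨a, ha⟩ := residue_surjective (w * z⁻¹)
      rw [LinearMap.zero_apply, show w = a • z by
        rw [Algebra.smul_def, ResidueField.algebraMap_eq, ha, inv_mul_cancel_right₀ hz0],
        map_smul, hz, smul_zero])
  refine ⟨g, InjHullBasic.isEssentialInj_of_exists_smul hinj fun y hy => ?_⟩
  obtain ⟨r, hr, hsoc⟩ := exists_socle (hE y) hy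
  let φ : ResidueField R →ₗ[R] E := Submodule.liftQ (maximalIdeal R)
    (LinearMap.toSpanSingleton R E (r • y)) fun a ha => hsoc a ha
  obtain ⟨c, hc⟩ := IsSimpleModule.toSpanSingleton_surjective R hg φ
  refine ⟨r, c • 1, ?_, hr⟩
  have := LinearMap.congr_fun hc 1
  rw [LinearMap.toSpanSingleton_apply, LinearMap.smul_apply] at this
  rw [map_smul, this]
  exact one_smul R _

end Groth.Agent.MatlisDual
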