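import Groth.Agent.MatlisDual.Completion
import Mathlib.Algebra.Category.ModuleCat.ChangeOfRings
import Mathlib.CategoryTheory.Preadditive.Injective.Basic
import Mathlib.LinearAlgebra.Dual.Lemmas

/-!
# Hulls of the residue field from linear duals
-/

universe u

open CategoryTheory InjHull LocCoh IsLocalRing

namespace Groth.Agent.MatlisDual

variable {B : Type u} [CommRing B] [IsLocalRing B] {I : Type u} [AddCommGroup I] [Module B I]

/-- A torsion module with one dimensional socle is an essential extension of the residue field. -/
theorem isEssentialInj_of_socle {g : ResidueField B →ₗ[B] I} (hg : Function.Injective g)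
    (htor : IsPowerTorsion (maximalIdeal B) I)
    (hsoc : ∀ x : I, (∀ a ∈ maximalIdeal B, a • x = 0) → x ∈ LinearMap.range g) :
    IsEssentialInj g := by
  refine InjHullBasic.isEssentialInj_of_exists_smul hg fun y hy => ?_
  obtain ⟨r, hr, hs⟩ := exists_socle (htor y) hy
  obtain ⟨z, hz⟩ := hsoc _ hs
  exact ⟨r, z, hz, hr⟩

/-- The hull inside the torsion part of an injective module. -/
theorem isInjectiveHull_torsion [IsNoetherianRing B] [Module.Injective B I]
    (T : Submodule B I)
    (hT : T = ⨆ n : ℕ, Submodule.torsionBySet B I ((maximalIdeal B ^ n : Ideal B) : Set B))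
    (g : ResidueField B →ₗ[B] I) (hg : Function.Injective g)
    (hsoc : ∀ x : I, (∀ a ∈ maximalIdeal B, a • x = 0) → x ∈ LinearMap.range g) :
    ∃ g' : ResidueField B →ₗ[B] T, IsInjectiveHull g' := by
  subst hT
  have hmem : ∀ z, g z ∈ (⨆ n : ℕ, Submodule.torsionBySet B I
      ((maximalIdeal B ^ n : Ideal B) : Set B)) := fun z => by
    rw [InjHullBasic.isPowerTorsion_iSup]
    exact ⟨1, fun a ha => smul_range g (by rwa [pow_one] at ha) z⟩
  refine ⟨g.codRestrict _ hmem, isEssentialInj_of_socle
    (fun a b h => hg (congrArg Subtype.val h)) (fun x => ?_) (fun x hx => ?_),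
    InjHullBasic.injective_powerTorsion I _⟩
  · obtain ⟨n, hn⟩ := (InjHullBasic.isPowerTorsion_iSup _).mp x.2
    exact ⟨n, fun a ha => Subtype.ext (hn a ha)⟩
  · obtain ⟨z, hz⟩ := hsoc x fun a ha => congrArg Subtype.val (hx a ha)
    exact ⟨z, Subtype.ext hz⟩

variable {A : Type u} [CommRing A] [Algebra A B] {E : Type u} [AddCommGroup E] [Module A E]

/-- The socle of the coextension. -/
theorem exists_socle_coextend (lam : ResidueField B →ₗ[A] E) (hne : lam ≠ 0)
    (hlen : Module.length A (ResidueField B →ₗ[A] E) = Module.length A (ResidueField B))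
    (hfin : Module.length A (ResidueField B) ≠ ⊤) :
    ∃ g : ResidueField B →ₗ[B] (ModuleCat.coextendScalars (algebraMap A B)).obj (ModuleCat.of A E),
      Function.Injective g ∧
      ∀ x, (∀ a ∈ maximalIdeal B, a • x = 0) → x ∈ LinearMap.range g := by
  let H := (ModuleCat.coextendScalars (algebraMap A B)).obj (ModuleCat.of A E)
  let μ : ResidueField B →ₗ[A] (ResidueField B →ₗ[A] E) :=
    { toFun := fun w => lam ∘ₗ LinearMap.mulLeft A w
      map_add' := fun x y => by ext; simp [add_mul]
      map_smul' := fun r x => by ext; simp }
  have hμ : Function.Injective μ := (injective_iff_map_eq_zero μ).mpr fun w hw => by_contra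
    fun hw0 => hne (LinearMap.ext fun z => by
      have := LinearMap.congr_fun hw (w⁻¹ * z)
      simpa [μ, mul_inv_cancel_left₀ hw0] using this)
  have hsurj : Function.Surjective μ := by
    have hex := Module.length_eq_add_of_exact μ (LinearMap.range μ).mkQ hμ
      (Submodule.mkQ_surjective _) (LinearMap.exact_map_mkQ_range μ)
    rw [hlen] at hex
    exact LinearMap.range_eq_top.mp (Submodule.Quotient.subsingleton_iff.mp
      (Module.length_eq_zero_iff.mp (ENat.add_right_injective_of_ne_top hfin
        (hex.symm.trans (add_zero _).symm))))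
  let mk : ResidueField B → H := fun w =>
    { toFun := fun b : B => lam (w * residue B b)
      map_add' := fun x y : B => by rw [← map_add, ← mul_add, ← map_add]; rfl
      map_smul' := fun (r : A) (x : B) => by
        change lam (w * residue B (algebraMap A B r * x)) = r • lam (w * residue B x)
        rw [← map_smul, map_mul (residue B), mul_left_comm, Algebra.smul_def]
        rfl }
  let g : ResidueField B →ₗ[B] H :=
    { toFun := mk
      map_add' := fun x y => LinearMap.ext fun b : B => by
        change lam ((x + y) * residue B b) = lam (x * residue B b) + lam (y * residue B b)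
        rw [add_mul, map_add]
      map_smul' := fun c x => LinearMap.ext fun b : B => by
        change lam ((c • x) * residue B b) = lam (x * residue B (b * c))
        rw [Algebra.smul_def, ResidueField.algebraMap_eq, map_mul (residue B), mul_comm (residue B c),
          mul_assoc, mul_comm (residue B c) (residue B b)] }
  refine ⟨g, fun x y h => hμ (LinearMap.ext fun z => ?_), fun x hx => ?_⟩
  · obtain ⟨b, rfl⟩ := residue_surjective z
    exact (LinearMap.congr_fun h b : _)
  · let F : (ModuleCat.restrictScalars (algebraMap A B)).obj (ModuleCat.of B B) →ₗ[A] E := x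
    let x' : B →ₗ[A] E :=
      { toFun := fun b => F b
        map_add' := fun a b => F.map_add a b
        map_smul' := fun r b => by
          rw [RingHom.id_apply, Algebra.smul_def]
          exact F.map_smul r b }
    have hker : LinearMap.ker (IsScalarTower.toAlgHom A B (ResidueField B)).toLinearMap ≤
        LinearMap.ker x' := fun b hb => by
      have hb' : b ∈ maximalIdeal B := (residue_eq_zero_iff b).mp hb
      have : F ((1 : B) * b) = 0 := LinearMap.congr_fun (hx b hb') (1 : B)
      rw [LinearMap.mem_ker]
      exact (congrArg (fun t : B => F t) (one_mul b)).symm.trans this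
    obtain ⟨φ, hφ⟩ := InjHullBasic.exists_range_lift _ x' hker
    have htop : LinearMap.range (IsScalarTower.toAlgHom A B (ResidueField B)).toLinearMap = ⊤ :=
      LinearMap.range_eq_top.mpr residue_surjective
    obtain ⟨w, hw⟩ := hsurj (φ ∘ₗ (LinearEquiv.ofTop _ htop).symm.toLinearMap)
    refine ⟨w, LinearMap.ext fun b : B => ?_⟩
    exact (LinearMap.congr_fun hw (residue B b)).trans (hφ b)

omit [IsLocalRing B] in
/-- Coextension preserves injectivity. -/
theorem injective_coextend [Module.Injective A E] :
    Module.Injective B ((ModuleCat.coextendScalars (algebraMap A B)).obj (ModuleCat.of A E)) := by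
  have : Injective (ModuleCat.of A E) := Module.injective_object_of_injective_module A E
  have := (ModuleCat.restrictCoextendScalarsAdj (algebraMap A B)).map_injective _ this
  exact Module.injective_module_of_injective_object B _ (inj := this)

/-- The torsion part of the linear dual is a hull. -/
theorem exists_hull_linearDual {k₀ : Type u} [Field k₀] [IsNoetherianRing B] [Algebra k₀ B]
    [Module.Finite k₀ (ResidueField B)] :
    ∃ f : ResidueField B →ₗ[B]
      ↥(⨆ n : ℕ, Submodule.torsionBySet B
        ((ModuleCat.coextendScalars (algebraMap k₀ B)).obj (ModuleCat.of k₀ k₀))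
        ((maximalIdeal B ^ n : Ideal B) : Set B)), IsInjectiveHull f := by
  have : Module.Injective k₀ k₀ := Module.injective_module_of_injective_object k₀ k₀
    (inj := Module.injective_object_of_injective_module k₀ k₀ (inj := Module.Baer.injective fun a g => by
      rcases Ideal.eq_bot_or_top a with rfl | rfl
      · refine ⟨0, fun x hx => ?_⟩
        obtain rfl : x = 0 := hx
        exact (map_zero g).symm
      · exact ⟨g ∘ₗ Submodule.topEquiv.symm.toLinearMap, fun x _ => rfl⟩))
  have := injective_coextend (A := k₀) (B := B) (E := k₀)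
  obtain ⟨lam, hlam⟩ := exists_ne (0 : Module.Dual k₀ (ResidueField B))
  obtain ⟨g, hg, hs⟩ := exists_socle_coextend (B := B) lam hlam
    (by rw [Module.length_eq_finrank, Module.length_eq_finrank]
        exact congrArg _ Subspace.dual_finrank_eq)
    (by rw [Module.length_eq_finrank]; exact ENat.natCast_ne_top _)
  exact isInjectiveHull_torsion _ rfl g hg hs

/-- Coextension of a hull along a finite local extension. -/
theorem exists_hull_coextend_finite [IsLocalRing A] [IsNoetherianRing A] [IsNoetherianRing B]
    [Module.Finite A B] {f : ResidueField A →ₗ[A] E} (hf : IsInjectiveHull f) :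
    ∃ g : ResidueField B →ₗ[B] (ModuleCat.coextendScalars (algebraMap A B)).obj (ModuleCat.of A E),
      IsInjectiveHull g := by
  have := hf.isInjective
  have := injective_coextend (A := A) (B := B) (E := E)
  have hcomap : (maximalIdeal B).comap (algebraMap A B) = maximalIdeal A :=
    eq_maximalIdeal (Ideal.isMaximal_comap_of_isIntegral_of_isMaximal _)
  let : Field (A ⧸ maximalIdeal A) := Ideal.Quotient.field _
  have hm : ∀ a ∈ maximalIdeal A, algebraMap A B a ∈ maximalIdeal B := fun a ha => by
    rw [← hcomap] at ha; exact ha
  have hfl : IsFiniteLength A (ResidueField B) := by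
    rw [isFiniteLength_iff_isNoetherian_isArtinian]
    have : Module.Finite A (ResidueField B) := Module.Finite.of_surjective
      (IsScalarTower.toAlgHom A B (ResidueField B)).toLinearMap residue_surjective
    refine ⟨inferInstance, (isArtinian_iff hf _).mpr ⟨fun z => ⟨1, fun a ha => ?_⟩, ?_⟩⟩
    · rw [pow_one] at ha
      rw [← algebraMap_smul B a z]
      exact maximalIdeal_smul_residue (hm a ha) z
    · have : Module.Finite A ↥(LocCoh.torsionBy (maximalIdeal A) (ResidueField B)) :=
        inferInstance
      exact Module.Finite.of_restrictScalars_finite A _ _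
  obtain ⟨lam, hlam⟩ := exists_apply_ne_zero hf (x := (1 : ResidueField B)) one_ne_zero
  obtain ⟨g, hg, hs⟩ := exists_socle_coextend (B := B) lam
    (fun h => hlam (by rw [h, LinearMap.zero_apply]))
    (length_dual hf hfl) (Module.length_ne_top_iff.mpr hfl)
  refine ⟨g, isEssentialInj_of_socle hg (fun φ => ?_) hs, inferInstance⟩
  let F : (ModuleCat.restrictScalars (algebraMap A B)).obj (ModuleCat.of B B) →ₗ[A] E := φ
  let φ' : B →ₗ[A] E :=
    { toFun := fun b => F b
      map_add' := fun a b => F.map_add a b
      map_smul' := fun r b => by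
        rw [RingHom.id_apply, Algebra.smul_def]
        exact F.map_smul r b }
  obtain ⟨n, hn⟩ : ∃ n, ∀ a ∈ maximalIdeal A ^ n, ∀ b, a • φ' b = 0 := by
    obtain ⟨t, ht⟩ := Module.finite_def.mp ‹Module.Finite A B›
    choose k hk using fun b : B => isPowerTorsion_hull hf (φ' b)
    refine ⟨t.sup k, fun a ha b => ?_⟩
    have hb : b ∈ Submodule.span A (t : Set B) := ht ▸ Submodule.mem_top
    induction hb using Submodule.span_induction with
    | mem y hy => exact hk y a (Ideal.pow_le_pow_right (Finset.le_sup hy) ha)
    | zero => simp
    | add y z _ _ hy hz => rw [map_add, smul_add, hy, hz, add_zero]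
    | smul c y _ hy => rw [map_smul, smul_comm, hy, smul_zero]
  obtain ⟨N, hN⟩ : ∃ N, maximalIdeal B ^ N ≤ (maximalIdeal A).map (algebraMap A B) := by
    refine Ideal.exists_pow_le_of_le_radical_of_fg ?_ (maximalIdeal B).fg_of_isNoetherianRing
    rw [Ideal.radical_eq_sInf]
    refine le_sInf fun P ⟨hP, hPp⟩ => ?_
    have h1 : maximalIdeal A ≤ P.comap (algebraMap A B) := Ideal.map_le_iff_le_comap.mp hP
    have h2 : (P.comap (algebraMap A B)).IsMaximal :=
      (maximalIdeal.isMaximal A).eq_of_le (Ideal.IsPrime.comap _).ne_top h1 ▸
        maximalIdeal.isMaximal A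
    exact (eq_maximalIdeal (Ideal.isMaximal_of_isIntegral_of_isMaximal_comap P h2)).ge
  refine ⟨N * n, fun c hc => LinearMap.ext fun b : B => ?_⟩
  have hc' : c ∈ (maximalIdeal A ^ n).map (algebraMap A B) := by
    rw [Ideal.map_pow]
    rw [pow_mul] at hc
    exact Ideal.pow_right_mono hN n hc
  change φ' (b * c) = 0
  clear hc
  induction hc' using Submodule.span_induction generalizing b with
  | mem y hy =>
    obtain ⟨a, ha, rfl⟩ := hy
    rw [mul_comm, ← Algebra.smul_def, map_smul]
    exact hn a ha b
  | zero => simp
  | add y z _ _ hy hz => rw [mul_add, map_add, hy, hz, add_zero]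
  | smul c' y _ hy => rw [smul_eq_mul, ← mul_assoc]; exact hy _

end Groth.Agent.MatlisDual
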